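import Groth.Agent.WeilRes57.Affine
import Groth.Agent.Mag88.OverRep
import Groth.Prelude.Def_Flat

/-!
Weil restrictions along finite locally free universal homeomorphisms.
-/

set_option autoImplicit false
set_option backward.isDefEq.respectTransparency.types false
set_option linter.style.haveILetI false
universe u

open CategoryTheory CategoryTheory.Limits AlgebraicGeometry Opposite

noncomputable section

namespace Groth.Agent.WeilRes57

variable {S S' : Scheme.{u}} (f : S' ⟶ S)

/-- A pair of affine opens, one of the base and one of the source over it. -/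
structure ChartIdx (X' : Over S') where
  V : S.Opens
  hV : IsAffineOpen V
  U : X'.left.Opens
  hU : IsAffineOpen U
  hUV : U ≤ (X'.hom ≫ f) ⁻¹ᵁ V

theorem isHomeomorph_fst (hf : FlatMor.IsUnivHomeo f) (T : Over S) : IsHomeomorph (pullback.fst T.hom f) :=
  hf _ _ _ (IsPullback.of_hasPullback T.hom f)

/-- The Weil restriction functor is a Zariski sheaf. -/
theorem isSheaf_functor (X' : Over S') :
    Presheaf.IsSheaf (Scheme.zariskiTopology.over S) (WeilRes.functor f X') :=
  (Over.pullback f).op_comp_isSheaf_of_isSheaf (Scheme.zariskiTopology.over S) (Scheme.zariskiTopology.over S') _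
    ((isSheaf_iff_isSheaf_of_type _ _).2 (GrothendieckTopology.Subcanonical.isSheaf_of_isRepresentable _))

/-- The open subset of a test object where a point lies in a chart. -/
def chartOpen (hf : FlatMor.IsUnivHomeo f) {X' : Over S'} (T : Over S) (x : Red.bc f T ⟶ X') (j : ChartIdx f X') :
    T.left.Opens :=
  ⟨pullback.fst T.hom f '' (x.left ⁻¹' (j.U : Set X'.left)) ∩ T.hom ⁻¹' (j.V : Set S),
    ((isHomeomorph_fst f hf T).isOpenMap _ (j.U.2.preimage x.left.continuous)).inter
      (j.V.2.preimage T.hom.continuous)⟩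

theorem mem_chartOpen (hf : FlatMor.IsUnivHomeo f) {X' : Over S'} (T : Over S) (x : Red.bc f T ⟶ X') (j : ChartIdx f X')
    (p : T.left) : p ∈ chartOpen f hf T x j ↔
      (∃ w, x.left w ∈ j.U ∧ pullback.fst T.hom f w = p) ∧ T.hom p ∈ j.V :=
  Iff.rfl

theorem range_subset_chartOpen_iff (hf : FlatMor.IsUnivHomeo f) {X' : Over S'} {T T' : Over S}
    (x : Red.bc f T ⟶ X') (t : T' ⟶ T) (j : ChartIdx f X') :
    Set.range t.left ⊆ (chartOpen f hf T x j : Set T.left) ↔
      Set.range T'.hom ⊆ (j.V : Set S) ∧ Set.range ((Over.pullback f).map t ≫ x).left ⊆ (j.U : Set X'.left) := by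
  constructor
  · intro h
    refine ⟨?_, ?_⟩
    · rintro _ ⟨z, rfl⟩
      rw [← Over.w t, Scheme.Hom.comp_apply]
      exact ((mem_chartOpen f hf T x j _).1 (h ⟨z, rfl⟩)).2
    · rintro _ ⟨w, rfl⟩
      obtain ⟨⟨w', hw', he⟩, -⟩ := (mem_chartOpen f hf T x j _).1 (h ⟨pullback.fst T'.hom f w, rfl⟩)
      rw [← Scheme.Hom.comp_apply, ← map_left_fst, Scheme.Hom.comp_apply] at he
      have := (isHomeomorph_fst f hf T).injective he
      rw [this] at hw'
      rw [Over.comp_left, Scheme.Hom.comp_apply]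
      exact hw'
  · rintro ⟨h1, h2⟩ _ ⟨z, rfl⟩
    obtain ⟨w, rfl⟩ := (isHomeomorph_fst f hf T').surjective z
    refine (mem_chartOpen f hf T x j _).2 ⟨⟨((Over.pullback f).map t).left w, ?_, ?_⟩, ?_⟩
    · exact h2 ⟨w, by rw [Over.comp_left, Scheme.Hom.comp_apply]⟩
    · rw [← Scheme.Hom.comp_apply, map_left_fst, Scheme.Hom.comp_apply]
    · rw [← Scheme.Hom.comp_apply, Over.w t]
      exact h1 ⟨_, rfl⟩

/-- The Weil restriction along a finite locally free universal homeomorphism is representable. -/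
theorem exists_isWeilRes [IsFinite f] [Flat f] [LocallyOfFinitePresentation f] (hf : FlatMor.IsUnivHomeo f)
    (X' : Over S') : ∃ (R : Over S) (q : Red.bc f R ⟶ X'), WeilRes.IsWeilRes f X' R q := by
  choose R q hR hq hbij using fun j : ChartIdx f X' => exists_chart f X' j.hV j.hU j.hUV
  obtain ⟨Z, ⟨e⟩⟩ := Mag88.OverRep.exists_representableBy (WeilRes.functor f X') (isSheaf_functor f X') R
    (fun j => yonedaEquiv.symm (q j))
    (fun j T g g' h => by
      have h' : WeilRes.restr f (q j) T g = WeilRes.restr f (q j) T g' := h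
      refine (hbij j T (WeilRes.restr f (q j) T g') ?_ (range_restr f (q j) (hq j) T g')).unique h' rfl
      rintro _ ⟨z, rfl⟩
      rw [← Over.w g, Scheme.Hom.comp_apply]
      exact hR j ⟨_, rfl⟩)
    (fun T x j => chartOpen f hf T x j)
    (fun T T' x t j => by
      rw [range_subset_chartOpen_iff]
      constructor
      · rintro ⟨g, hg⟩
        have hg' : WeilRes.restr f (q j) T' g = (Over.pullback f).map t ≫ x := hg
        refine ⟨?_, hg' ▸ range_restr f (q j) (hq j) T' g⟩
        rintro _ ⟨z, rfl⟩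
        rw [← Over.w g, Scheme.Hom.comp_apply]
        exact hR j ⟨_, rfl⟩
      · rintro ⟨h1, h2⟩
        obtain ⟨g, hg, -⟩ := hbij j T' _ h1 h2
        exact ⟨g, hg⟩)
    (fun T x p => by
      obtain ⟨w, rfl⟩ := (isHomeomorph_fst f hf T).surjective p
      obtain ⟨_, ⟨V, hV, rfl⟩, hpV, -⟩ :=
        S.isBasis_affineOpens.exists_subset_of_mem_open (Set.mem_univ (T.hom (pullback.fst T.hom f w))) isOpen_univ
      have hmem : x.left w ∈ (X'.hom ≫ f) ⁻¹ᵁ V := by
        show (X'.hom ≫ f) (x.left w) ∈ V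
        rw [← Scheme.Hom.comp_apply, ← Category.assoc, Over.w x]
        show (pullback.snd T.hom f ≫ f) w ∈ V
        rw [← pullback.condition, Scheme.Hom.comp_apply]
        exact hpV
      obtain ⟨_, ⟨U, hU, rfl⟩, hwU, hUV⟩ :=
        X'.left.isBasis_affineOpens.exists_subset_of_mem_open hmem ((X'.hom ≫ f) ⁻¹ᵁ V).2
      exact ⟨⟨V, hV, U, hU, hUV⟩, (mem_chartOpen f hf T x _ _).2 ⟨⟨w, hwU, rfl⟩, hpV⟩⟩)
  exact ⟨Z, e.homEquiv (𝟙 Z), WeilRes.IsWeilRes.of_representableBy e⟩

end Groth.Agent.WeilRes57
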