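import Groth.Agent.WeilRes57.Affine
import Groth.Agent.Mag88.OverRep
import Groth.Agent.Curves2.AffineNil
import Groth.Agent.Amp73.Avoid
import Groth.Agent.S1841
import Mathlib.RingTheory.Artinian.Module
import Mathlib.AlgebraicGeometry.Morphisms.QuasiFinite

/-!
Weil restrictions along finite locally free morphisms of schemes whose finite sets in fibres lie in affine opens.
-/

set_option autoImplicit false
set_option backward.isDefEq.respectTransparency.types false
set_option linter.style.haveILetI false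
universe u

open CategoryTheory CategoryTheory.Limits AlgebraicGeometry Opposite TopologicalSpace

noncomputable section

namespace Groth.Agent.WeilRes57.FiniteSets

variable {S S' : Scheme.{u}} (f : S' ⟶ S)

/-- A pair of affine opens, one of the base and one of the source over it. -/
structure Chart (X' : Over S') where
  V : S.Opens
  hV : IsAffineOpen V
  U : X'.left.Opens
  hU : IsAffineOpen U
  hUV : U ≤ (X'.hom ≫ f) ⁻¹ᵁ V

theorem isPullback_map_left {T T' : Over S} (t : T' ⟶ T) :
    IsPullback ((Over.pullback f).map t).left (pullback.fst T'.hom f) (pullback.fst T.hom f) t.left := by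
  have hw := Over.w ((Over.pullback f).map t)
  refine IsPullback.of_right (h₁₂ := pullback.snd T.hom f) (v₁₃ := f) (h₂₂ := T.hom) ?_
    (map_left_fst f t) (IsPullback.of_hasPullback T.hom f).flip
  have h1 : ((Over.pullback f).map t).left ≫ pullback.snd T.hom f = pullback.snd T'.hom f := hw
  rw [h1, Over.w t]
  exact (IsPullback.of_hasPullback T'.hom f).flip

variable [IsFinite f]

/-- The open subset of a test object where a point lies in a chart. -/
def chartOpen {X' : Over S'} (T : Over S) (x : Red.bc f T ⟶ X') (j : Chart f X') : T.left.Opens :=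
  ⟨(pullback.fst T.hom f '' (x.left ⁻¹' (j.U : Set X'.left)ᶜ))ᶜ ∩ T.hom ⁻¹' (j.V : Set S),
    haveI : IsFinite (pullback.fst T.hom f) := MorphismProperty.pullback_fst (P := @IsFinite) _ _ ‹_›
    (((pullback.fst T.hom f).isClosedMap _ (j.U.2.isClosed_compl.preimage x.left.continuous)).isOpen_compl).inter
      (j.V.2.preimage T.hom.continuous)⟩

theorem mem_chartOpen {X' : Over S'} (T : Over S) (x : Red.bc f T ⟶ X') (j : Chart f X') (p : T.left) :
    p ∈ chartOpen f T x j ↔
      (∀ w, pullback.fst T.hom f w = p → x.left w ∈ j.U) ∧ T.hom p ∈ j.V := by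
  refine and_congr ⟨fun h w hw => ?_, fun h => ?_⟩ Iff.rfl
  · by_contra hU
    exact h ⟨w, hU, hw⟩
  · rintro ⟨w, hU, hw⟩
    exact hU (h w hw)

theorem range_subset_chartOpen_iff {X' : Over S'} {T T' : Over S}
    (x : Red.bc f T ⟶ X') (t : T' ⟶ T) (j : Chart f X') :
    Set.range t.left ⊆ (chartOpen f T x j : Set T.left) ↔
      Set.range T'.hom ⊆ (j.V : Set S) ∧ Set.range ((Over.pullback f).map t ≫ x).left ⊆ (j.U : Set X'.left) := by
  constructor
  · intro h
    refine ⟨?_, ?_⟩
    · rintro _ ⟨z, rfl⟩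
      rw [← Over.w t, Scheme.Hom.comp_apply]
      exact ((mem_chartOpen f T x j _).1 (h ⟨z, rfl⟩)).2
    · rintro _ ⟨w, rfl⟩
      rw [Over.comp_left, Scheme.Hom.comp_apply]
      refine ((mem_chartOpen f T x j _).1 (h ⟨pullback.fst T'.hom f w, rfl⟩)).1 _ ?_
      rw [← Scheme.Hom.comp_apply, map_left_fst, Scheme.Hom.comp_apply]
  · rintro ⟨h1, h2⟩ _ ⟨z, rfl⟩
    refine (mem_chartOpen f T x j _).2 ⟨fun w hw => ?_, ?_⟩
    · obtain ⟨w', hw', -⟩ := Scheme.exists_preimage_of_isPullback (isPullback_map_left f t) w z hw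
      rw [← hw']
      exact h2 ⟨w', by rw [Over.comp_left, Scheme.Hom.comp_apply]⟩
    · rw [← Scheme.Hom.comp_apply, Over.w t]
      exact h1 ⟨_, rfl⟩

/-- The Weil restriction along a finite locally free morphism of a scheme in which every finite subset of a fibre
over the base lies in a chart is representable. -/
theorem exists_isWeilRes [Flat f] [LocallyOfFinitePresentation f] (X' : Over S')
    (hX : ∀ (s : S) (F : Set X'.left), F.Finite → (∀ y ∈ F, (X'.hom ≫ f) y = s) →
      ∃ j : Chart f X', s ∈ j.V ∧ F ⊆ j.U) :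
    ∃ (R : Over S) (q : Red.bc f R ⟶ X'), WeilRes.IsWeilRes f X' R q := by
  choose R q hR hq hbij using fun j : Chart f X' => exists_chart f X' j.hV j.hU j.hUV
  have hsheaf : Presheaf.IsSheaf (Scheme.zariskiTopology.over S) (WeilRes.functor f X') :=
    (Over.pullback f).op_comp_isSheaf_of_isSheaf (Scheme.zariskiTopology.over S) (Scheme.zariskiTopology.over S') _
      ((isSheaf_iff_isSheaf_of_type _ _).2 (GrothendieckTopology.Subcanonical.isSheaf_of_isRepresentable _))
  obtain ⟨Z, ⟨e⟩⟩ := Mag88.OverRep.exists_representableBy (WeilRes.functor f X') hsheaf R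
    (fun j => yonedaEquiv.symm (q j))
    (fun j T g g' h => by
      have h' : WeilRes.restr f (q j) T g = WeilRes.restr f (q j) T g' := h
      refine (hbij j T (WeilRes.restr f (q j) T g') ?_ (range_restr f (q j) (hq j) T g')).unique h' rfl
      rintro _ ⟨z, rfl⟩
      rw [← Over.w g, Scheme.Hom.comp_apply]
      exact hR j ⟨_, rfl⟩)
    (fun T x j => chartOpen f T x j)
    (fun T T' x t j => by
      rw [range_subset_chartOpen_iff]
      constructor
      · rintro ⟨g, hg⟩
        have hg' : WeilRes.restr f (q j) T' g = (Over.pullback f).map t ≫ x := hg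
        refine ⟨?_, hg' ▸ range_restr f (q j) (hq j) T' g⟩
        rintro _ ⟨z, rfl⟩
        rw [← Over.w g, Scheme.Hom.comp_apply]
        exact hR j ⟨_, rfl⟩
      · rintro ⟨h1, h2⟩
        obtain ⟨g, hg, -⟩ := hbij j T' _ h1 h2
        exact ⟨g, hg⟩)
    (fun T x p => by
      haveI : IsFinite (pullback.fst T.hom f) := MorphismProperty.pullback_fst (P := @IsFinite) _ _ ‹_›
      let F : Set X'.left := x.left '' ((pullback.fst T.hom f) ⁻¹' {p})
      obtain ⟨j, hs, hF⟩ := hX (T.hom p) F (((pullback.fst T.hom f).finite_preimage_singleton p).image _) (by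
        rintro _ ⟨w, hw, rfl⟩
        rw [← Scheme.Hom.comp_apply, ← Category.assoc, Over.w x]
        show (pullback.snd T.hom f ≫ f) w = _
        rw [← pullback.condition, Scheme.Hom.comp_apply]
        exact congrArg T.hom hw)
      exact ⟨j, (mem_chartOpen f T x j p).2 ⟨fun w hw => hF ⟨w, hw, rfl⟩, hs⟩⟩)
  exact ⟨Z, e.homEquiv (𝟙 Z), WeilRes.IsWeilRes.of_representableBy e⟩

omit [IsFinite f] in
/-- In a group scheme of finite type over an Artinian ring every finite subset lies in an affine open. -/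
theorem exists_affineOpen_finite {A : Type u} [CommRing A] [IsArtinianRing A]
    (G : Over (Spec (CommRingCat.of A))) [GrpObj G] [LocallyOfFiniteType G.hom] [QuasiCompact G.hom]
    (F : Set G.left) (hF : F.Finite) : ∃ U : G.left.Opens, IsAffineOpen U ∧ F ⊆ U := by
  classical
  haveI : IsLocallyNoetherian G.left := LocallyOfFiniteType.isLocallyNoetherian G.hom
  have key : ∀ m : PrimeSpectrum A, ∃ O : G.left.Opens, IsAffineOpen O ∧
      (∀ y ∈ O, G.hom y = m) ∧ ∀ y ∈ F, G.hom y = m → y ∈ O := by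
    intro m
    haveI : m.asIdeal.IsMaximal := inferInstance
    letI : Field (A ⧸ m.asIdeal) := Ideal.Quotient.field _
    let j : Spec (CommRingCat.of (A ⧸ m.asIdeal)) ⟶ Spec (CommRingCat.of A) :=
      Spec.map (CommRingCat.ofHom (Ideal.Quotient.mk m.asIdeal))
    haveI : IsClosedImmersion j := IsClosedImmersion.spec_of_surjective _ Ideal.Quotient.mk_surjective
    let Gm : Over (Spec (CommRingCat.of (A ⧸ m.asIdeal))) := (Over.pullback j).obj G
    letI : GrpObj Gm := Functor.grpObjObj
    haveI : LocallyOfFiniteType Gm.hom := MorphismProperty.pullback_snd (P := @LocallyOfFiniteType) _ _ ‹_›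
    haveI : QuasiCompact Gm.hom := MorphismProperty.pullback_snd (P := @QuasiCompact) _ _ ‹_›
    obtain ⟨L, hL⟩ := Groth.Agent.S1841.result (A ⧸ m.asIdeal) Gm
    let p : Gm.left ⟶ G.left := pullback.fst G.hom j
    haveI : IsClosedImmersion p := MorphismProperty.pullback_fst (P := @IsClosedImmersion) _ _ ‹_›
    have hj : Set.range j = {m} := by
      refine Set.eq_singleton_iff_nonempty_unique_mem.2 ⟨Set.range_nonempty _, ?_⟩
      rintro _ ⟨z, rfl⟩
      refine PrimeSpectrum.ext ((Ideal.IsMaximal.eq_of_le inferInstance (j z).2.ne_top ?_).symm)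
      intro a ha
      show Ideal.Quotient.mk m.asIdeal a ∈ z.asIdeal
      rw [Ideal.Quotient.eq_zero_iff_mem.2 ha]
      exact z.asIdeal.zero_mem
    have hp : Set.range p = G.hom ⁻¹' {m} := by
      rw [Scheme.Pullback.range_fst, hj]
    obtain ⟨W, -, hFW, -, hW⟩ := Amp73.exists_affine_genSet_of_finite hL
      (Z := p ⁻¹' F) (hF.preimage p.isClosedEmbedding.injective.injOn) (U := ⊤) (Set.subset_univ _)
    obtain ⟨O₁, hO₁, hO₁W⟩ := p.isClosedEmbedding.isInducing.isOpen_iff.1 W.2
    have hmo : IsOpen (G.hom ⁻¹' ({m} : Set (PrimeSpectrum A))) :=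
      (isOpen_discrete ({m} : Set (PrimeSpectrum A))).preimage G.hom.continuous
    let O : G.left.Opens := ⟨O₁ ∩ G.hom ⁻¹' {m}, hO₁.inter hmo⟩
    have hpO : p ⁻¹ᵁ O = W := by
      ext z
      have hz : p z ∈ G.hom ⁻¹' ({m} : Set (PrimeSpectrum A)) := hp.le ⟨z, rfl⟩
      show p z ∈ O₁ ∩ _ ↔ z ∈ W
      exact ⟨fun h => (Set.ext_iff.1 hO₁W z).1 h.1, fun h => ⟨(Set.ext_iff.1 hO₁W z).2 h, hz⟩⟩
    refine ⟨O, ?_, fun y hy => hy.2, fun y hyF hym => ?_⟩
    · haveI : IsAffine (p ⁻¹ᵁ O : Scheme.{u}) := by rw [hpO]; exact hW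
      haveI : Surjective (p ∣_ O) := ⟨fun y => by
        obtain ⟨z, hz⟩ := hp.ge (show y.1 ∈ G.hom ⁻¹' {m} from y.2.2)
        refine ⟨⟨z, show p z ∈ O from hz ▸ y.2⟩, Subtype.ext ?_⟩
        show (O.ι) ((p ∣_ O) ⟨z, _⟩) = y.1
        rw [← Scheme.Hom.comp_apply, morphismRestrict_ι]
        exact hz⟩
      haveI : IsClosedImmersion (p ∣_ O) := IsZariskiLocalAtTarget.restrict ‹_› O
      exact Curves2.isAffine_of_surjective_closedImmersion (p ∣_ O)
    · obtain ⟨z, rfl⟩ := hp.ge (show y ∈ G.hom ⁻¹' {m} from hym)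
      have hz : z ∈ W := hFW hyF
      rw [← hpO] at hz
      exact hz
  choose O hO hOm hFO using key
  haveI : Finite (PrimeSpectrum A) := inferInstance
  refine ⟨⨆ m, O m, IsAffineOpen.iSup_of_disjoint hO ?_, fun y hy => ?_⟩
  · intro m m' hne
    refine disjoint_iff.2 (Opens.ext (Set.eq_empty_iff_forall_notMem.2 fun y hy => hne ?_))
    exact (hOm m y hy.1).symm.trans (hOm m' y hy.2)
  · exact Opens.mem_iSup.2 ⟨G.hom y, hFO _ y hy rfl⟩

end Groth.Agent.WeilRes57.FiniteSets
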