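import Groth.Agent.WeilRes57.Chart

/-!
The Weil restriction of an affine open along a finite locally free morphism, over an affine open of the base.
-/

set_option autoImplicit false
set_option backward.isDefEq.respectTransparency.types false
set_option linter.style.haveILetI false
universe u

open CategoryTheory CategoryTheory.Limits AlgebraicGeometry
open scoped TensorProduct

noncomputable section

namespace Groth.Agent.WeilRes57

open Groth.Agent.Alg80.WeilAlg

/-- A ring map into the sections gives a morphism to an affine scheme. -/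
theorem exists_hom_appTop {X Y : Scheme.{u}} [IsAffine Y] (φ : Γ(Y, ⊤) ⟶ Γ(X, ⊤)) :
    ∃ g : X ⟶ Y, g.appTop = φ := by
  refine ⟨X.toSpecΓ ≫ Spec.map φ ≫ Y.isoSpec.inv, ?_⟩
  have h : Y.isoSpec.inv.appTop = (Scheme.ΓSpecIso Γ(Y, ⊤)).inv := by
    rw [← Iso.comp_hom_eq_id (Scheme.ΓSpecIso Γ(Y, ⊤)), ← Scheme.toSpecΓ_appTop, ← Scheme.Hom.comp_appTop]
    show (Y.isoSpec.hom ≫ Y.isoSpec.inv).appTop = _
    rw [Iso.hom_inv_id]; rfl
  rw [Scheme.Hom.comp_appTop, Scheme.Hom.comp_appTop, h, ← Scheme.ΓSpecIso_inv_naturality, Category.assoc,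
    Scheme.toSpecΓ_appTop, Iso.inv_hom_id, Category.comp_id]

variable {S S' : Scheme.{u}} (f : S' ⟶ S) [IsFinite f] [Flat f] [LocallyOfFinitePresentation f]

/-- The test object given by a morphism into a test object. -/
abbrev overOf (T : Over S) {W : Scheme.{u}} (j : W ⟶ T.left) : Over S := Over.mk (j ≫ T.hom)

/-- The morphism of test objects given by a morphism into a test object. -/
abbrev overHom (T : Over S) {W : Scheme.{u}} (j : W ⟶ T.left) : overOf T j ⟶ T := Over.homMk j rfl

theorem range_overOf (T : Over S) {W : Scheme.{u}} (j : W ⟶ T.left) {V : Set S} (hT : Set.range T.hom ⊆ V) :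
    Set.range (overOf T j).hom ⊆ V := by
  rintro _ ⟨z, rfl⟩
  exact hT ⟨j z, (Scheme.Hom.comp_apply _ _ _).symm⟩

omit [IsFinite f] [Flat f] [LocallyOfFinitePresentation f] in
theorem range_restr {X' : Over S'} {R : Over S} (q : Red.bc f R ⟶ X') {U : Set X'.left}
    (hqU : Set.range q.left ⊆ U) (T : Over S) (g : T ⟶ R) : Set.range (WeilRes.restr f q T g).left ⊆ U := by
  rintro _ ⟨z, rfl⟩
  exact hqU ⟨((Over.pullback f).map g).left z, (Scheme.Hom.comp_apply _ _ _).symm⟩

omit [IsFinite f] [Flat f] [LocallyOfFinitePresentation f] in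
theorem range_map_comp {X' : Over S'} {U : Set X'.left} {T T₁ : Over S} (t : T₁ ⟶ T) (φ : Red.bc f T ⟶ X')
    (hφ : Set.range φ.left ⊆ U) : Set.range ((Over.pullback f).map t ≫ φ).left ⊆ U := by
  rintro _ ⟨z, rfl⟩
  exact hφ ⟨((Over.pullback f).map t).left z, (Scheme.Hom.comp_apply _ _ _).symm⟩

omit [IsFinite f] [Flat f] [LocallyOfFinitePresentation f] in
/-- Injectivity for all test objects from affine ones. -/
theorem restr_inj_of_affine {X' : Over S'} {V : S.Opens} {U : X'.left.Opens} {R : Over S} {q : Red.bc f R ⟶ X'}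
    (hRV : Set.range R.hom ⊆ (V : Set S)) (hqU : Set.range q.left ⊆ (U : Set X'.left))
    (haff : ∀ (T : Over S) [IsAffine T.left] (φ : Red.bc f T ⟶ X'), Set.range T.hom ⊆ (V : Set S) →
      Set.range φ.left ⊆ (U : Set X'.left) → ∃! g : T ⟶ R, WeilRes.restr f q T g = φ)
    (T : Over S) (g g' : T ⟶ R) (h : WeilRes.restr f q T g = WeilRes.restr f q T g') : g = g' := by
  have hT : Set.range T.hom ⊆ (V : Set S) := by
    rintro _ ⟨z, rfl⟩
    rw [← Over.w g, Scheme.Hom.comp_apply]
    exact hRV ⟨_, rfl⟩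
  ext1
  refine Scheme.Cover.hom_ext T.left.affineCover _ _ fun i => ?_
  haveI : IsAffine (overOf T (T.left.affineCover.f i)).left := inferInstanceAs (IsAffine (T.left.affineCover.X i))
  obtain ⟨g₁, -, huniq⟩ := haff (overOf T (T.left.affineCover.f i))
    (WeilRes.restr f q _ (overHom T (T.left.affineCover.f i) ≫ g)) (range_overOf T _ hT) (range_restr f q hqU _ _)
  have h1 := huniq (overHom T (T.left.affineCover.f i) ≫ g) rfl
  have h2 := huniq (overHom T (T.left.affineCover.f i) ≫ g') (by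
    dsimp only
    rw [WeilRes.restr_comp, WeilRes.restr_comp, h])
  exact congrArg Over.Hom.left (h1.trans h2.symm)

omit [IsFinite f] [Flat f] [LocallyOfFinitePresentation f] in
/-- Gluing morphisms given on an open cover of a test object. -/
theorem exists_glue {X' : Over S'} {R : Over S} {q : Red.bc f R ⟶ X'} (T : Over S) (𝒰 : T.left.OpenCover)
    (φ : Red.bc f T ⟶ X') (gi : ∀ i, overOf T (𝒰.f i) ⟶ R)
    (hgi : ∀ i, WeilRes.restr f q _ (gi i) = (Over.pullback f).map (overHom T (𝒰.f i)) ≫ φ)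
    (hinj : ∀ (T : Over S) (g g' : T ⟶ R), WeilRes.restr f q T g = WeilRes.restr f q T g' → g = g') :
    ∃ g : T ⟶ R, ∀ i, overHom T (𝒰.f i) ≫ g = gi i := by
  have hcompat : ∀ i j, pullback.fst (𝒰.f i) (𝒰.f j) ≫ (gi i).left = pullback.snd (𝒰.f i) (𝒰.f j) ≫ (gi j).left := by
    intro i j
    let a : overOf (overOf T (𝒰.f i)) (pullback.fst (𝒰.f i) (𝒰.f j)) ⟶ overOf T (𝒰.f i) := overHom _ _
    let b : overOf (overOf T (𝒰.f i)) (pullback.fst (𝒰.f i) (𝒰.f j)) ⟶ overOf T (𝒰.f j) :=
      Over.homMk (pullback.snd _ _) (by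
        show pullback.snd _ _ ≫ 𝒰.f j ≫ T.hom = pullback.fst _ _ ≫ 𝒰.f i ≫ T.hom
        rw [pullback.condition_assoc])
    have hab : a ≫ overHom T (𝒰.f i) = b ≫ overHom T (𝒰.f j) := by
      ext1
      exact pullback.condition
    have := hinj _ (a ≫ gi i) (b ≫ gi j) (by
      rw [WeilRes.restr_comp, WeilRes.restr_comp, hgi, hgi, ← Category.assoc, ← Category.assoc, ← Functor.map_comp,
        ← Functor.map_comp, hab])
    exact congrArg Over.Hom.left this
  refine ⟨Over.homMk (𝒰.glueMorphisms (fun i => (gi i).left) hcompat) ?_, fun i => ?_⟩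
  · refine 𝒰.hom_ext _ _ fun i => ?_
    rw [← Category.assoc, Scheme.Cover.ι_glueMorphisms]
    exact Over.w (gi i)
  · ext1
    exact Scheme.Cover.ι_glueMorphisms 𝒰 (fun i => (gi i).left) hcompat i

omit [IsFinite f] [Flat f] [LocallyOfFinitePresentation f] in
/-- A morphism from the base change is determined on an open cover of the test object. -/
theorem ext_of_cover {X' : Over S'} (T : Over S) (𝒰 : T.left.OpenCover) (φ φ' : Red.bc f T ⟶ X')
    (h : ∀ i, (Over.pullback f).map (overHom T (𝒰.f i)) ≫ φ = (Over.pullback f).map (overHom T (𝒰.f i)) ≫ φ') :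
    φ = φ' := by
  ext1
  refine Scheme.Cover.hom_ext (𝒰.pullback₁ (pullback.fst T.hom f)) _ _ fun i => ?_
  let k := pullback.fst (pullback.fst T.hom f) (𝒰.f i)
  let l : pullback (pullback.fst T.hom f) (𝒰.f i) ⟶ pullback (overOf T (𝒰.f i)).hom f :=
    pullback.lift (pullback.snd _ _) (k ≫ pullback.snd T.hom f) (by
      show pullback.snd _ _ ≫ 𝒰.f i ≫ T.hom = _
      rw [← pullback.condition_assoc, pullback.condition, Category.assoc])
  have hl : l ≫ ((Over.pullback f).map (overHom T (𝒰.f i))).left = k := by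
    refine pullback.hom_ext ?_ ?_
    · rw [Category.assoc, map_left_fst, ← Category.assoc, pullback.lift_fst]
      exact pullback.condition.symm
    · rw [Category.assoc]
      refine (congrArg (l ≫ ·) (Over.w ((Over.pullback f).map (overHom T (𝒰.f i))))).trans ?_
      exact pullback.lift_snd _ _ _
  show k ≫ φ.left = k ≫ φ'.left
  rw [← hl, Category.assoc, Category.assoc]
  exact congrArg (l ≫ ·) (congrArg Over.Hom.left (h i))

omit [IsFinite f] [Flat f] [LocallyOfFinitePresentation f] in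
/-- From affine test objects to all test objects. -/
theorem extend_chart {X' : Over S'} {V : S.Opens} {U : X'.left.Opens} (R : Over S) (q : Red.bc f R ⟶ X')
    (hRV : Set.range R.hom ⊆ (V : Set S)) (hqU : Set.range q.left ⊆ (U : Set X'.left))
    (haff : ∀ (T : Over S) [IsAffine T.left] (φ : Red.bc f T ⟶ X'), Set.range T.hom ⊆ (V : Set S) →
      Set.range φ.left ⊆ (U : Set X'.left) → ∃! g : T ⟶ R, WeilRes.restr f q T g = φ)
    (T : Over S) (φ : Red.bc f T ⟶ X') (hT : Set.range T.hom ⊆ (V : Set S))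
    (hφ : Set.range φ.left ⊆ (U : Set X'.left)) : ∃! g : T ⟶ R, WeilRes.restr f q T g = φ := by
  have hinj := restr_inj_of_affine f hRV hqU haff
  choose gi hgi _ using fun i =>
    haveI : IsAffine (overOf T (T.left.affineCover.f i)).left := inferInstanceAs (IsAffine (T.left.affineCover.X i))
    haff (overOf T (T.left.affineCover.f i)) ((Over.pullback f).map (overHom T (T.left.affineCover.f i)) ≫ φ)
      (range_overOf T _ hT) (range_map_comp f _ φ hφ)
  obtain ⟨g, hg⟩ := exists_glue f T T.left.affineCover φ gi hgi hinj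
  refine ⟨g, ext_of_cover f T T.left.affineCover _ _ fun i => ?_, fun g' hg' => hinj T g' g ?_⟩
  · rw [← WeilRes.restr_comp, hg, hgi]
  · rw [hg']
    exact (ext_of_cover f T T.left.affineCover _ _ fun i => by rw [← WeilRes.restr_comp, hg, hgi]).symm

/-- The chart of the Weil restriction. -/
theorem exists_chart (X' : Over S') {V : S.Opens} (hV : IsAffineOpen V) {U : X'.left.Opens} (hU : IsAffineOpen U)
    (hUV : U ≤ (X'.hom ≫ f) ⁻¹ᵁ V) :
    ∃ (R : Over S) (q : Red.bc f R ⟶ X'), Set.range R.hom ⊆ (V : Set S) ∧ Set.range q.left ⊆ (U : Set X'.left) ∧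
      ∀ (T : Over S) (φ : Red.bc f T ⟶ X'), Set.range T.hom ⊆ (V : Set S) → Set.range φ.left ⊆ (U : Set X'.left) →
        ∃! g : T ⟶ R, WeilRes.restr f q T g = φ := by
  have : IsAffine (V : Scheme.{u}) := hV
  have : IsAffine (U : Scheme.{u}) := hU
  have : IsAffine (f ⁻¹ᵁ V : Scheme.{u}) := hV.preimage f
  let B : Type u := Γ((V : Scheme.{u}), ⊤)
  let B' : Type u := Γ((f ⁻¹ᵁ V : Scheme.{u}), ⊤)
  let C : Type u := Γ((U : Scheme.{u}), ⊤)
  let hU' : (U : Scheme.{u}) ⟶ (f ⁻¹ᵁ V : Scheme.{u}) := IsOpenImmersion.lift (f ⁻¹ᵁ V).ι (U.ι ≫ X'.hom) (by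
    rw [Scheme.Opens.range_ι]
    rintro _ ⟨z, rfl⟩
    exact hUV z.2)
  have hU'ι : hU' ≫ (f ⁻¹ᵁ V).ι = U.ι ≫ X'.hom := IsOpenImmersion.lift_fac _ _ _
  letI algB : Algebra B B' := (f ∣_ V).appTop.hom.toAlgebra
  have hB : algebraMap B B' = (f ∣_ V).appTop.hom := rfl
  letI algC : Algebra B' C := hU'.appTop.hom.toAlgebra
  have hfin : Module.Finite B B' := Scheme.Hom.finite_appTop (f ∣_ V)
  have hflat : Module.Flat B B' := (HasRingHomProperty.iff_of_isAffine (P := @Flat)).1
    (inferInstance : Flat (f ∣_ V))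
  have hfp : Algebra.FinitePresentation B B' := (HasRingHomProperty.iff_of_isAffine (P := @LocallyOfFinitePresentation)).1
    (inferInstance : LocallyOfFinitePresentation (f ∣_ V))
  have : Module.FinitePresentation B B' := Module.FinitePresentation.of_finite_of_finitePresentation B B'
  have : Module.Projective B B' := Module.Flat.projective_of_finitePresentation
  obtain ⟨W, _, _, u, hu⟩ := exists_weilAlg (B := B) (B' := B') C
  let RV : Spec (CommRingCat.of W) ⟶ (V : Scheme.{u}) :=
    Spec.map (CommRingCat.ofHom (algebraMap B W)) ≫ (V : Scheme.{u}).isoSpec.inv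
  let R : Over S := Over.mk (RV ≫ V.ι)
  have hRV : Set.range R.hom ⊆ (V : Set S) := by
    rintro _ ⟨z, rfl⟩
    exact (RV z).2
  have htoV : toV V R hRV = RV := by rw [← cancel_mono V.ι, toV_ι]; rfl
  have : IsAffine R.left := inferInstanceAs (IsAffine (Spec (CommRingCat.of W)))
  letI algR : Algebra B Γ(R.left, ⊤) := (toV V R hRV).appTop.hom.toAlgebra
  have hR : algebraMap B Γ(R.left, ⊤) = (toV V R hRV).appTop.hom := rfl
  have hRW : (toV V R hRV).appTop = CommRingCat.ofHom (algebraMap B W) ≫ (Scheme.ΓSpecIso (CommRingCat.of W)).inv := by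
    rw [htoV]
    have h : (V : Scheme.{u}).isoSpec.inv.appTop = (Scheme.ΓSpecIso Γ((V : Scheme.{u}), ⊤)).inv := by
      rw [← Iso.comp_hom_eq_id (Scheme.ΓSpecIso Γ((V : Scheme.{u}), ⊤)), ← Scheme.toSpecΓ_appTop,
        ← Scheme.Hom.comp_appTop]
      show ((V : Scheme.{u}).isoSpec.hom ≫ (V : Scheme.{u}).isoSpec.inv).appTop = _
      rw [Iso.hom_inv_id]; rfl
    rw [Scheme.Hom.comp_appTop, h, Scheme.ΓSpecIso_inv_naturality]
    rfl
  let e : W ≃ₐ[B] Γ(R.left, ⊤) :=
    AlgEquiv.ofRingEquiv (f := (Scheme.ΓSpecIso (CommRingCat.of W)).symm.commRingCatIsoToRingEquiv)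
      (fun b => (congr($hRW b)).symm)
  let u' : C →ₐ[B'] B' ⊗[B] Γ(R.left, ⊤) := (mapId e.toAlgHom).comp u
  have hu' : ∀ (A : Type u) [CommRing A] [Algebra B A] (ψ : C →ₐ[B'] B' ⊗[B] A),
      ∃! φ : Γ(R.left, ⊤) →ₐ[B] A, (mapId φ).comp u' = ψ := by
    intro A _ _ ψ
    obtain ⟨φ, hφ, huniq⟩ := hu A ψ
    refine ⟨φ.comp e.symm.toAlgHom, ?_, fun φ' hφ' => ?_⟩
    · show (mapId _).comp ((mapId e.toAlgHom).comp u) = ψ
      rw [← AlgHom.comp_assoc, ← mapId_comp, AlgHom.comp_assoc,
        show e.symm.toAlgHom.comp e.toAlgHom = AlgHom.id B W from AlgHom.ext fun x => e.symm_apply_apply x,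
        AlgHom.comp_id]
      exact hφ
    · have : φ'.comp e.toAlgHom = φ := huniq _ (by
        show (mapId (φ'.comp e.toAlgHom)).comp u = ψ
        rw [mapId_comp, AlgHom.comp_assoc]
        exact hφ')
      rw [← this, AlgHom.comp_assoc,
        show e.toAlgHom.comp e.symm.toAlgHom = AlgHom.id B _ from AlgHom.ext fun x => e.apply_symm_apply x,
        AlgHom.comp_id]
  let θR := θ f V hB R hRV hR
  obtain ⟨qU, hqU⟩ := exists_hom_appTop (X := pullback R.hom f) (Y := (U : Scheme.{u}))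
    (CommRingCat.ofHom u'.toRingHom ≫ θR)
  have hqU' : qU ≫ hU' = toV' f V R hRV := by
    apply ext_of_isAffine
    rw [Scheme.Hom.comp_appTop, hqU]
    refine CommRingCat.hom_ext (RingHom.ext fun b => ?_)
    show θR (u' (algebraMap B' C b)) = _
    rw [AlgHom.commutes]
    exact θ_left f V hB R hRV hR b
  let q : Red.bc f R ⟶ X' := Over.homMk (qU ≫ U.ι) (by
    show (qU ≫ U.ι) ≫ X'.hom = pullback.snd R.hom f
    rw [Category.assoc, ← hU'ι, ← Category.assoc, hqU', toV'_ι])
  -- affine test objects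
  have haff : ∀ (T : Over S) [IsAffine T.left] (φ : Red.bc f T ⟶ X'), Set.range T.hom ⊆ (V : Set S) →
      Set.range φ.left ⊆ (U : Set X'.left) → ∃! g : T ⟶ R, WeilRes.restr f q T g = φ := by
    intro T _ φ hT hφ
    letI algT : Algebra B Γ(T.left, ⊤) := (toV V T hT).appTop.hom.toAlgebra
    have hTa : algebraMap B Γ(T.left, ⊤) = (toV V T hT).appTop.hom := rfl
    let φU : pullback T.hom f ⟶ (U : Scheme.{u}) := IsOpenImmersion.lift U.ι φ.left (by
      rw [Scheme.Opens.range_ι]; exact hφ)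
    have hφU : φU ≫ U.ι = φ.left := IsOpenImmersion.lift_fac _ _ _
    have hφU' : φU ≫ hU' = toV' f V T hT := by
      rw [← cancel_mono (f ⁻¹ᵁ V).ι, Category.assoc, hU'ι, ← Category.assoc, hφU, toV'_ι]
      exact Over.w φ
    have := isIso_θ f V hB T hT hTa hV
    let θinv := inv (θ f V hB T hT hTa)
    have hθinv : ∀ z, θ f V hB T hT hTa (θinv z) = z := fun z =>
      congr($(IsIso.inv_hom_id (θ f V hB T hT hTa)) z)
    have hθinj : Function.Injective (θ f V hB T hT hTa).hom :=
      (ConcreteCategory.bijective_of_isIso (θ f V hB T hT hTa)).1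
    let ψ : C →ₐ[B'] B' ⊗[B] Γ(T.left, ⊤) :=
      { toRingHom := (φU.appTop ≫ θinv).hom
        commutes' := fun b => by
          apply hθinj
          show θ f V hB T hT hTa (θinv (φU.appTop (hU'.appTop b))) = θ f V hB T hT hTa (b ⊗ₜ 1)
          rw [hθinv, θ_left]
          exact congr($((Scheme.Hom.comp_appTop _ _).symm.trans (congrArg Scheme.Hom.appTop hφU')) b) }
    have hkey : ∀ (g : T ⟶ R) (ψg : Γ(R.left, ⊤) →ₐ[B] Γ(T.left, ⊤)), (∀ a, ψg a = g.left.appTop a) →
        (WeilRes.restr f q T g = φ ↔ (mapId ψg).comp u' = ψ) := by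
      intro g ψg hg
      have h1 : (((Over.pullback f).map g).left ≫ qU).appTop =
          CommRingCat.ofHom ((mapId ψg).comp u').toRingHom ≫ θ f V hB T hT hTa := by
        rw [Scheme.Hom.comp_appTop, hqU]
        exact CommRingCat.hom_ext (RingHom.ext fun c => θ_natural f V hB R hRV hR g hT hTa ψg hg (u' c))
      constructor
      · intro h
        have h2 : ((Over.pullback f).map g).left ≫ qU = φU := by
          rw [← cancel_mono U.ι, hφU, ← h, Category.assoc]; rfl
        refine AlgHom.ext fun c => hθinj ?_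
        show _ = θ f V hB T hT hTa (θinv (φU.appTop c))
        rw [hθinv, ← h2]
        exact congr($h1.symm c)
      · intro h
        have h2 : ((Over.pullback f).map g).left ≫ qU = φU := by
          apply ext_of_isAffine
          rw [h1, h]
          exact CommRingCat.hom_ext (RingHom.ext fun c => hθinv _)
        ext1
        rw [← hφU, ← h2, Category.assoc]; rfl
    have hlin : ∀ (g : T ⟶ R), ∃ ψg : Γ(R.left, ⊤) →ₐ[B] Γ(T.left, ⊤), ∀ a, ψg a = g.left.appTop a := fun g =>
      ⟨{ toRingHom := g.left.appTop.hom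
         commutes' := fun b => congr($((Scheme.Hom.comp_appTop _ _).symm.trans
          (congrArg Scheme.Hom.appTop (comp_toV V g hRV hT))) b) }, fun a => rfl⟩
    obtain ⟨φ₀, hφ₀, huniq⟩ := hu' _ ψ
    obtain ⟨g₀, hg₀⟩ := exists_hom_appTop (X := T.left) (Y := R.left) (CommRingCat.ofHom φ₀.toRingHom)
    have hg₀' : g₀ ≫ toV V R hRV = toV V T hT := by
      apply ext_of_isAffine
      rw [Scheme.Hom.comp_appTop, hg₀]
      exact CommRingCat.hom_ext (RingHom.ext fun b => φ₀.commutes b)
    let g : T ⟶ R := Over.homMk g₀ (by rw [← toV_ι V R hRV, ← Category.assoc, hg₀', toV_ι])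
    refine ⟨g, (hkey g φ₀ fun a => (congr($hg₀ a)).symm).2 hφ₀, fun g' hg' => ?_⟩
    obtain ⟨ψg, hψg⟩ := hlin g'
    have := huniq ψg ((hkey g' ψg hψg).1 hg')
    ext1
    refine ext_of_isAffine (CommRingCat.hom_ext (RingHom.ext fun a => ?_))
    show g'.left.appTop a = g₀.appTop a
    rw [← hψg, this, hg₀]
    rfl
  have hqU'' : Set.range q.left ⊆ (U : Set X'.left) := fun z ⟨a, ha⟩ => ha ▸ (qU a).2
  exact ⟨R, q, hRV, hqU'', extend_chart f R q hRV hqU'' haff⟩

end Groth.Agent.WeilRes57
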