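import Mathlib
import Groth.Agent.Alg80.WeilAlg

/-!
The Weil restriction algebra of an arbitrary algebra along a finite projective extension.
-/

set_option autoImplicit false
universe u

open scoped TensorProduct

namespace Groth.Agent.WeilRes57

open Groth.Agent.Alg80.WeilAlg

variable {B B' : Type u} [CommRing B] [CommRing B'] [Algebra B B']

/-- The algebra representing the Weil restriction of an algebra, with no finiteness assumption on it. -/
theorem exists_weilAlg [Module.Finite B B'] [Module.Projective B B'] (C : Type u) [CommRing C]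
    [Algebra B' C] :
    ∃ (W : Type u) (_ : CommRing W) (_ : Algebra B W) (u : C →ₐ[B'] B' ⊗[B] W),
      ∀ (A : Type u) [CommRing A] [Algebra B A] (ψ : C →ₐ[B'] B' ⊗[B] A),
        ∃! φ : W →ₐ[B] A, (mapId φ).comp u = ψ := by
  classical
  obtain ⟨n, b, σ, hbσ⟩ := exists_dual_basis (B := B) (B' := B')
  let f : MvPolynomial C B' →ₐ[B'] C := MvPolynomial.aeval id
  have hf : Function.Surjective f := fun c => ⟨MvPolynomial.X c, MvPolynomial.aeval_X _ c⟩
  let P := MvPolynomial (C × Fin n) B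
  let ξ : C → B' ⊗[B] P := fun c => ∑ l, b l ⊗ₜ[B] MvPolynomial.X (c, l)
  let ev : MvPolynomial C B' →ₐ[B'] B' ⊗[B] P := MvPolynomial.aeval ξ
  let rel : Set P :=
    Set.range (fun il : C × Fin n => MvPolynomial.X il - coef (σ il.2) (ξ il.1)) ∪
    Set.range (fun gl : (RingHom.ker f) × Fin n => coef (σ gl.2) (ev gl.1.1))
  let I : Ideal P := Ideal.span rel
  let W := P ⧸ I
  let mk : P →ₐ[B] W := Ideal.Quotient.mkₐ B I
  have hrel : ∀ r ∈ rel, mk r = 0 := fun r hr =>
    Ideal.Quotient.eq_zero_iff_mem.mpr (Ideal.subset_span hr)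
  have hker : ∀ g ∈ RingHom.ker f, ((mapId mk).comp ev) g = 0 := by
    intro g hg
    show mapId mk (ev g) = 0
    rw [← sum_coef b σ hbσ (mapId mk (ev g))]
    refine Finset.sum_eq_zero fun l _ => ?_
    rw [coef_mapId, hrel _ (Or.inr ⟨(⟨g, hg⟩, l), rfl⟩), TensorProduct.tmul_zero]
  let u : C →ₐ[B'] B' ⊗[B] W :=
    (Ideal.Quotient.liftₐ _ ((mapId mk).comp ev) hker).comp
      (Ideal.quotientKerAlgEquivOfSurjective hf).symm.toAlgHom
  have hu : ∀ g, u (f g) = mapId mk (ev g) := by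
    intro g
    have : (Ideal.quotientKerAlgEquivOfSurjective hf).symm (f g) = Ideal.Quotient.mk _ g := by
      rw [AlgEquiv.symm_apply_eq]; rfl
    show Ideal.Quotient.liftₐ _ ((mapId mk).comp ev) hker
      ((Ideal.quotientKerAlgEquivOfSurjective hf).symm (f g)) = _
    rw [this]
    rfl
  refine ⟨W, inferInstance, inferInstance, u, ?_⟩
  intro A _ _ ψ
  let φ₀ : P →ₐ[B] A := MvPolynomial.aeval fun il => coef (σ il.2) (ψ (f (MvPolynomial.X il.1)))
  have hφX : ∀ il, φ₀ (MvPolynomial.X il) = coef (σ il.2) (ψ (f (MvPolynomial.X il.1))) :=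
    fun il => MvPolynomial.aeval_X _ il
  have hξ : ∀ c, mapId φ₀ (ξ c) = ψ (f (MvPolynomial.X c)) := by
    intro c
    simp only [ξ, map_sum, Algebra.TensorProduct.map_tmul, AlgHom.id_apply, hφX]
    exact sum_coef b σ hbσ _
  have hev : (mapId φ₀).comp ev = ψ.comp f := by
    apply MvPolynomial.algHom_ext
    intro c
    rw [AlgHom.comp_apply, MvPolynomial.aeval_X, hξ, AlgHom.comp_apply]
  have hI : ∀ r ∈ I, φ₀ r = 0 := by
    show I ≤ RingHom.ker φ₀
    refine Ideal.span_le.mpr fun r hr => ?_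
    show φ₀ r = 0
    rcases hr with ⟨il, rfl⟩ | ⟨⟨⟨g, hg⟩, l⟩, rfl⟩
    · rw [map_sub, ← coef_mapId, hξ, hφX, sub_self]
    · rw [← coef_mapId]
      show coef (σ l) (((mapId φ₀).comp ev) g) = 0
      rw [hev, AlgHom.comp_apply, RingHom.mem_ker.mp hg, map_zero, map_zero]
  refine ⟨Ideal.Quotient.liftₐ I φ₀ hI, ?_, ?_⟩
  · ext c
    obtain ⟨g, rfl⟩ := hf c
    rw [AlgHom.comp_apply, hu, ← AlgHom.comp_apply (mapId _) (mapId mk), ← mapId_comp,
      Ideal.Quotient.liftₐ_comp]
    exact DFunLike.congr_fun hev g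
  · intro φ hφ
    apply Ideal.Quotient.algHom_ext
    apply MvPolynomial.algHom_ext
    intro il
    have h1 : mk (MvPolynomial.X il) = mk (coef (σ il.2) (ξ il.1)) := by
      rw [← sub_eq_zero, ← map_sub]
      exact hrel _ (Or.inl ⟨il, rfl⟩)
    have h2 : mapId φ (mapId mk (ξ il.1)) = ψ (f (MvPolynomial.X il.1)) := by
      rw [← hφ, AlgHom.comp_apply, hu]
      simp only [ev, MvPolynomial.aeval_X]
    rw [AlgHom.comp_apply, h1, ← coef_mapId, ← coef_mapId, h2]
    exact (hφX il).symm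

end Groth.Agent.WeilRes57
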