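import Groth.Agent.WeilRes57.Algebra
import Groth.Prelude.Def_WeilRes

/-!
Affine charts of Weil restrictions along finite locally free morphisms.
-/

set_option autoImplicit false
set_option backward.isDefEq.respectTransparency.types false
universe u

open CategoryTheory CategoryTheory.Limits AlgebraicGeometry
open scoped TensorProduct

noncomputable section

namespace Groth.Agent.WeilRes57

open Groth.Agent.Alg80.WeilAlg

variable {S S' : Scheme.{u}} (f : S' ⟶ S) (V : S.Opens)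

/-- A test object landing in `V`, as a map to `V`. -/
def toV (T : Over S) (h : Set.range T.hom ⊆ (V : Set S)) : T.left ⟶ (V : Scheme.{u}) :=
  IsOpenImmersion.lift V.ι T.hom (by rw [Scheme.Opens.range_ι]; exact h)

@[reassoc]
theorem toV_ι (T : Over S) (h : Set.range T.hom ⊆ (V : Set S)) : toV V T h ≫ V.ι = T.hom :=
  IsOpenImmersion.lift_fac _ _ _

theorem comp_toV {T T₁ : Over S} (g : T₁ ⟶ T) (h : Set.range T.hom ⊆ (V : Set S))
    (h₁ : Set.range T₁.hom ⊆ (V : Set S)) : g.left ≫ toV V T h = toV V T₁ h₁ := by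
  rw [← cancel_mono V.ι, Category.assoc, toV_ι, toV_ι, Over.w]

theorem range_snd_subset (T : Over S) (h : Set.range T.hom ⊆ (V : Set S)) :
    Set.range (pullback.snd T.hom f) ⊆ Set.range (f ⁻¹ᵁ V).ι := by
  rw [Scheme.Opens.range_ι]
  rintro _ ⟨z, rfl⟩
  show f (pullback.snd T.hom f z) ∈ V
  rw [← Scheme.Hom.comp_apply, ← pullback.condition, Scheme.Hom.comp_apply]
  exact h ⟨_, rfl⟩

/-- The projection of the base change to the preimage of `V`. -/
def toV' (T : Over S) (h : Set.range T.hom ⊆ (V : Set S)) : pullback T.hom f ⟶ (f ⁻¹ᵁ V : Scheme.{u}) :=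
  IsOpenImmersion.lift (f ⁻¹ᵁ V).ι (pullback.snd T.hom f) (range_snd_subset f V T h)

@[reassoc]
theorem toV'_ι (T : Over S) (h : Set.range T.hom ⊆ (V : Set S)) :
    toV' f V T h ≫ (f ⁻¹ᵁ V).ι = pullback.snd T.hom f :=
  IsOpenImmersion.lift_fac _ _ _

theorem isPullback_toV (T : Over S) (h : Set.range T.hom ⊆ (V : Set S)) :
    IsPullback (pullback.fst T.hom f) (toV' f V T h) (toV V T h) (f ∣_ V) := by
  refine IsPullback.of_bot (v₂₁ := (f ⁻¹ᵁ V).ι) (v₂₂ := V.ι) ?_ ?_ (isPullback_morphismRestrict f V)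
  · rw [toV'_ι, toV_ι]
    exact IsPullback.of_hasPullback T.hom f
  · rw [← cancel_mono V.ι, Category.assoc, toV_ι, Category.assoc, morphismRestrict_ι, toV'_ι_assoc,
      pullback.condition]

theorem map_left_fst {T T₁ : Over S} (g : T₁ ⟶ T) :
    ((Over.pullback f).map g).left ≫ pullback.fst T.hom f = pullback.fst T₁.hom f ≫ g.left :=
  pullback.lift_fst _ _ _

theorem map_left_toV' {T T₁ : Over S} (g : T₁ ⟶ T) (h : Set.range T.hom ⊆ (V : Set S))
    (h₁ : Set.range T₁.hom ⊆ (V : Set S)) :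
    ((Over.pullback f).map g).left ≫ toV' f V T h = toV' f V T₁ h₁ := by
  rw [← cancel_mono (f ⁻¹ᵁ V).ι, Category.assoc, toV'_ι, toV'_ι]
  exact Over.w ((Over.pullback f).map g)

section Ring

variable [Algebra Γ((V : Scheme.{u}), ⊤) Γ((f ⁻¹ᵁ V : Scheme.{u}), ⊤)]
  (hB : algebraMap Γ((V : Scheme.{u}), ⊤) Γ((f ⁻¹ᵁ V : Scheme.{u}), ⊤) = (f ∣_ V).appTop.hom)
  (T : Over S) (h : Set.range T.hom ⊆ (V : Set S)) [Algebra Γ((V : Scheme.{u}), ⊤) Γ(T.left, ⊤)]
  (hT : algebraMap Γ((V : Scheme.{u}), ⊤) Γ(T.left, ⊤) = (toV V T h).appTop.hom)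

include hB hT in
theorem w_comp :
    CommRingCat.ofHom (algebraMap Γ((V : Scheme.{u}), ⊤) Γ((f ⁻¹ᵁ V : Scheme.{u}), ⊤)) ≫ (toV' f V T h).appTop =
      CommRingCat.ofHom (algebraMap Γ((V : Scheme.{u}), ⊤) Γ(T.left, ⊤)) ≫ (pullback.fst T.hom f).appTop := by
  rw [hB, hT]
  exact (Scheme.Hom.comp_appTop _ _).symm.trans
    ((congrArg Scheme.Hom.appTop (isPullback_toV f V T h).w.symm).trans (Scheme.Hom.comp_appTop _ _))

/-- Functions on the base change of an affine test object. -/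
def θ : CommRingCat.of (Γ((f ⁻¹ᵁ V : Scheme.{u}), ⊤) ⊗[Γ((V : Scheme.{u}), ⊤)] Γ(T.left, ⊤)) ⟶
    Γ(pullback T.hom f, ⊤) :=
  (CommRingCat.isPushout_tensorProduct Γ((V : Scheme.{u}), ⊤) Γ((f ⁻¹ᵁ V : Scheme.{u}), ⊤) Γ(T.left, ⊤)).desc
    (toV' f V T h).appTop (pullback.fst T.hom f).appTop (w_comp f V hB T h hT)

theorem θ_left (b : Γ((f ⁻¹ᵁ V : Scheme.{u}), ⊤)) :
    θ f V hB T h hT (b ⊗ₜ 1) = (toV' f V T h).appTop b :=
  congr($((CommRingCat.isPushout_tensorProduct _ _ _).inl_desc _ _ (w_comp f V hB T h hT)) b)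

theorem θ_right (a : Γ(T.left, ⊤)) :
    θ f V hB T h hT (1 ⊗ₜ a) = (pullback.fst T.hom f).appTop a :=
  congr($((CommRingCat.isPushout_tensorProduct _ _ _).inr_desc _ _ (w_comp f V hB T h hT)) a)

theorem isIso_θ (hV : IsAffineOpen V) [IsAffineHom f] [IsAffine T.left] : IsIso (θ f V hB T h hT) := by
  have : IsAffine (V : Scheme.{u}) := hV
  have : IsAffine (f ⁻¹ᵁ V : Scheme.{u}) := hV.preimage f
  have h1 : IsPushout (CommRingCat.ofHom (algebraMap Γ((V : Scheme.{u}), ⊤) Γ((f ⁻¹ᵁ V : Scheme.{u}), ⊤)))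
      (CommRingCat.ofHom (algebraMap Γ((V : Scheme.{u}), ⊤) Γ(T.left, ⊤)))
      (toV' f V T h).appTop (pullback.fst T.hom f).appTop := by
    rw [hB, hT]
    exact isPushout_appTop_of_isPullback (isPullback_toV f V T h).flip
  have : θ f V hB T h hT = ((CommRingCat.isPushout_tensorProduct _ _ _).isoIsPushout _ _ h1).hom := by
    apply (CommRingCat.isPushout_tensorProduct _ _ _).hom_ext
    · rw [IsPushout.inl_isoIsPushout_hom]
      exact (CommRingCat.isPushout_tensorProduct _ _ _).inl_desc _ _ _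
    · rw [IsPushout.inr_isoIsPushout_hom]
      exact (CommRingCat.isPushout_tensorProduct _ _ _).inr_desc _ _ _
  rw [this]
  infer_instance

theorem θ_natural {T₁ : Over S} (g : T₁ ⟶ T) (h₁ : Set.range T₁.hom ⊆ (V : Set S))
    [Algebra Γ((V : Scheme.{u}), ⊤) Γ(T₁.left, ⊤)]
    (hT₁ : algebraMap Γ((V : Scheme.{u}), ⊤) Γ(T₁.left, ⊤) = (toV V T₁ h₁).appTop.hom)
    (ψ : Γ(T.left, ⊤) →ₐ[Γ((V : Scheme.{u}), ⊤)] Γ(T₁.left, ⊤)) (hψ : ∀ a, ψ a = g.left.appTop a)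
    (z : Γ((f ⁻¹ᵁ V : Scheme.{u}), ⊤) ⊗[Γ((V : Scheme.{u}), ⊤)] Γ(T.left, ⊤)) :
    ((Over.pullback f).map g).left.appTop (θ f V hB T h hT z) = θ f V hB T₁ h₁ hT₁ (mapId ψ z) := by
  induction z using TensorProduct.induction_on with
  | zero =>
    rw [map_zero]
    erw [map_zero, map_zero]
  | tmul b a =>
    rw [Algebra.TensorProduct.map_tmul, AlgHom.id_apply, hψ]
    have e1 : (b ⊗ₜ a : Γ((f ⁻¹ᵁ V : Scheme.{u}), ⊤) ⊗[Γ((V : Scheme.{u}), ⊤)] Γ(T.left, ⊤)) = (b ⊗ₜ 1) * (1 ⊗ₜ a) := by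
      simp
    have e2 : (b ⊗ₜ g.left.appTop a : Γ((f ⁻¹ᵁ V : Scheme.{u}), ⊤) ⊗[Γ((V : Scheme.{u}), ⊤)] Γ(T₁.left, ⊤)) =
        (b ⊗ₜ 1) * (1 ⊗ₜ g.left.appTop a) := by
      simp
    rw [e1, e2]
    erw [map_mul, map_mul, map_mul, θ_left, θ_left, θ_right, θ_right]
    congr 1
    · exact congr($((Scheme.Hom.comp_appTop _ _).symm.trans
        (congrArg Scheme.Hom.appTop (map_left_toV' f V g h h₁))) b)
    · exact congr($(((Scheme.Hom.comp_appTop _ _).symm.trans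
        (congrArg Scheme.Hom.appTop (map_left_fst f g))).trans (Scheme.Hom.comp_appTop _ _)) a)
  | add x y hx hy =>
    rw [map_add]
    erw [map_add, map_add]
    rw [hx, hy]
    exact (map_add (θ f V hB T₁ h₁ hT₁).hom _ _).symm

end Ring

end Groth.Agent.WeilRes57
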